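import Groth.Agent.L04.ReflLift.Core
import Mathlib.LinearAlgebra.Dual.BaseChange

/-! Bidual elements of a base change evaluated on duals. -/

set_option autoImplicit false
set_option linter.style.haveILetI false
set_option backward.isDefEq.respectTransparency false
set_option backward.isDefEq.respectTransparency.types false

universe u

open scoped TensorProduct

noncomputable section

namespace Groth.L04.ReflLift

variable {C S L Y : Type u} [CommRing C] [CommRing S] [Algebra C S] [CommRing L] [Algebra C L]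
  [CommRing Y] [Algebra C Y] [Algebra L Y] [IsScalarTower C L Y]
  {F : Type u} [AddCommGroup F] [Module C F] (ι : S →ₐ[C] Y)

theorem finite_dual {A M : Type u} [CommRing A] [IsNoetherianRing A] [AddCommGroup M] [Module A M]
    [Module.Finite A M] : Module.Finite A (Module.Dual A M) := by
  obtain ⟨b, p, hp⟩ := Module.Finite.exists_fin' A M
  exact Module.Finite.of_injective (LinearMap.lcomp A A p) fun g g' h => LinearMap.ext fun m => by
    obtain ⟨v, rfl⟩ := hp m
    exact LinearMap.congr_fun h v

theorem dual_expand {s : C} {m : ℕ} {x : Fin m → F} {μ : Fin m → Module.Dual C F}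
    (hsx : ∀ y, s • y = ∑ i, μ i y • x i) (ν : Module.Dual S (S ⊗[C] F)) :
    s • ν = ∑ i, ν (1 ⊗ₜ x i) • (μ i).baseChange S := by
  refine TensorProduct.AlgebraTensorModule.ext fun c y => ?_
  rw [LinearMap.smul_apply, ← LinearMap.map_smul_of_tower, ← TensorProduct.tmul_smul, hsx, TensorProduct.tmul_sum,
    map_sum, LinearMap.sum_apply]
  refine Finset.sum_congr rfl fun i _ => ?_
  rw [LinearMap.smul_apply, Module.Dual.baseChange_apply_tmul, TensorProduct.tmul_smul, LinearMap.map_smul_of_tower,
    show c ⊗ₜ[C] x i = c • ((1 : S) ⊗ₜ[C] x i) by rw [TensorProduct.smul_tmul', smul_eq_mul, mul_one], map_smul,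
    Algebra.smul_def, Algebra.smul_def (μ i y) c, smul_eq_mul, smul_eq_mul]
  ring

variable (L) in
/-- evaluation of bidual elements on duals -/
def psi0 : Module.Dual S (Module.Dual S (S ⊗[C] F)) →ₗ[C] (L ⊗[C] Module.Dual C F →ₗ[L] Y) where
  toFun d := LinearMap.liftBaseChange L (ι.toLinearMap ∘ₗ d.restrictScalars C ∘ₗ Module.Dual.baseChange S)
  map_add' d d' := TensorProduct.AlgebraTensorModule.ext fun o μ => by
    rw [LinearMap.add_apply, LinearMap.liftBaseChange_tmul, LinearMap.liftBaseChange_tmul,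
      LinearMap.liftBaseChange_tmul, ← smul_add]
    exact congrArg (o • ·) (map_add ι _ _)
  map_smul' c d := TensorProduct.AlgebraTensorModule.ext fun o μ => by
    rw [RingHom.id_apply, LinearMap.smul_apply, LinearMap.liftBaseChange_tmul,
      LinearMap.liftBaseChange_tmul, smul_comm c o]
    exact congrArg (o • ·) (map_smul ι c _)

theorem psi0_apply (d : Module.Dual S (Module.Dual S (S ⊗[C] F))) (μ : Module.Dual C F) :
    psi0 L ι d ((1 : L) ⊗ₜ[C] μ) = ι (d (μ.baseChange S)) := by
  show LinearMap.liftBaseChange L (ι.toLinearMap ∘ₗ d.restrictScalars C ∘ₗ Module.Dual.baseChange S) _ = _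
  rw [LinearMap.liftBaseChange_tmul, one_smul]
  rfl

variable (S) in
/-- the bidual element of a vector -/
def dx (x : F) : Module.Dual S (Module.Dual S (S ⊗[C] F)) := Module.Dual.eval S (S ⊗[C] F) (1 ⊗ₜ x)

theorem psi0_dx (x : F) (μ : Module.Dual C F) :
    psi0 L ι (dx S x) ((1 : L) ⊗ₜ[C] μ) = algebraMap L Y (algebraMap C L (μ x)) := by
  rw [psi0_apply, dx, Module.Dual.eval_apply, Module.Dual.baseChange_apply_tmul, Algebra.smul_def, mul_one,
    AlgHom.commutes, ← IsScalarTower.algebraMap_apply]

variable [IsNoetherianRing L] (JL : Ideal L) [Module.Finite L Y]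

theorem exists_kill (M : Submonoid C) [IsLocalizedModule M ι.toLinearMap] [IsNoetherianRing S]
    [Module.Finite C F] (hY : 1 ≤ LocCoh.idealDepth JL Y)
    (hp : ∀ P : PrimeSpectrum L, ¬ JL ≤ P.asIdeal →
      ∃ (s : C) (m : ℕ) (x : Fin m → F) (μ : Fin m → Module.Dual C F),
        algebraMap C L s ∉ P.asIdeal ∧ ∀ y, s • y = ∑ i, μ i y • x i)
    (d : Module.Dual S (Module.Dual S (S ⊗[C] F))) (hd : psi0 L ι d = 0) : ∃ t : M, (t : C) • d = 0 := by
  classical
  have h1 : ∀ ν : Module.Dual S (S ⊗[C] F), ι (d ν) = 0 := fun ν =>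
    eq_zero_of_off JL hY fun P hP => by
      obtain ⟨s, m, x, μ, hs, hsx⟩ := hp P hP
      refine ⟨algebraMap C L s, hs, ?_⟩
      rw [algebraMap_smul, ← map_smul, ← LinearMap.map_smul_of_tower, dual_expand hsx, map_sum, map_sum]
      refine Finset.sum_eq_zero fun i _ => ?_
      rw [map_smul, smul_eq_mul, map_mul, ← psi0_apply (L := L), hd, LinearMap.zero_apply, mul_zero]
  haveI : Module.Finite S (S ⊗[C] F) := Module.Finite.base_change C S F
  haveI : Module.Finite S (Module.Dual S (S ⊗[C] F)) := finite_dual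
  obtain ⟨k, v, hv⟩ := Submodule.fg_iff_exists_fin_generating_family.1
    (Module.Finite.fg_top (R := S) (M := Module.Dual S (S ⊗[C] F)))
  choose w hw using fun j => (IsLocalizedModule.eq_zero_iff M ι.toLinearMap).1 (h1 (v j))
  refine ⟨⟨∏ j, (w j : C), prod_mem fun j _ => (w j).2⟩, LinearMap.ext_on_range hv fun j => ?_⟩
  rw [LinearMap.smul_apply, LinearMap.zero_apply]
  show (∏ l, (w l : C)) • d (v j) = 0
  rw [← Finset.mul_prod_erase Finset.univ (fun l => (w l : C)) (Finset.mem_univ j), mul_comm, mul_smul,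
    show (w j : C) • d (v j) = 0 from hw j, smul_zero]

end Groth.L04.ReflLift
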