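import Groth.Agent.L10.RelCan.FibreHartogs
import Groth.Agent.L04.FibFlat
import Groth.Agent.L04.CMBasic

/-! Maps into the closed fibre: depth along a closed subset and surjectivity from Serre's condition two. -/

set_option autoImplicit false
set_option linter.style.haveILetI false
set_option backward.isDefEq.respectTransparency false
set_option backward.isDefEq.respectTransparency.types false

universe u

open scoped TensorProduct
open IsLocalRing Groth.L10.RelCan

noncomputable section

namespace Groth.L04.ReflLift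

variable {O : Type u} [CommRing O] [IsNoetherianRing O] (J : Ideal O)
  {Q X : Type u} [AddCommGroup Q] [Module O Q] [Module.Finite O Q] [AddCommGroup X] [Module O X]
  [Module.Finite O X]

omit [Module.Finite O Q] in
theorem one_le_hom [Module.Finite O (Q →ₗ[O] X)] (hX : 1 ≤ LocCoh.idealDepth J X) :
    1 ≤ LocCoh.idealDepth J (Q →ₗ[O] X) := by
  rcases exists_regular_or_killed J X with ⟨b, hb, hreg⟩ | ⟨z, hz, hkill⟩
  · exact one_le_idealDepth_of_regular hb fun g g' h => LinearMap.ext fun q => hreg congr($h q)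
  · exact absurd (hom_zero_of_one_le hX hkill) hz

omit [IsNoetherianRing O] [Module.Finite O X] in
theorem colon_singleton_eq {M : Type u} [AddCommGroup M] [Module O M] (x : M) (r : O) :
    r ∈ (⊥ : Submodule O M).colon {x} ↔ r • x = 0 := by
  rw [Submodule.mem_colon_singleton, Submodule.mem_bot]

theorem mem_associatedPrimes_target {G : Type u} [AddCommGroup G] [Module O G]
    (φ : G →ₗ[O] (Q →ₗ[O] X)) (hφ : Function.Injective φ) {q : Ideal O}
    (hq : q ∈ associatedPrimes O G) : q ∈ associatedPrimes O X := by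
  classical
  obtain ⟨hqp, z, hz⟩ := isAssociatedPrime_iff.1 hq
  obtain ⟨n, v, hv⟩ := Submodule.fg_iff_exists_fin_generating_family.1 (Module.Finite.fg_top (R := O) (M := Q))
  have hle : Finset.univ.inf (fun i => (⊥ : Submodule O X).colon {φ z (v i)}) ≤ q := by
    intro r hr
    rw [hz, colon_singleton_eq]
    refine hφ ?_
    rw [map_smul, map_zero]
    refine LinearMap.ext_on_range hv fun i => ?_
    rw [LinearMap.smul_apply, LinearMap.zero_apply, ← colon_singleton_eq]
    exact (Finset.inf_le (f := fun i => (⊥ : Submodule O X).colon {φ z (v i)}) (Finset.mem_univ i) :) hr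
  obtain ⟨i, -, hi⟩ := (Ideal.IsPrime.inf_le' hqp).1 hle
  refine isAssociatedPrime_iff.2 ⟨hqp, φ z (v i), le_antisymm (fun r hr => ?_) hi⟩
  rw [hz, colon_singleton_eq] at hr
  rw [colon_singleton_eq, ← LinearMap.smul_apply, ← map_smul, hr, map_zero, LinearMap.zero_apply]

theorem two_le_of_injective {G : Type u} [AddCommGroup G] [Module O G] [Module.Finite O G]
    (φ : G →ₗ[O] (Q →ₗ[O] X)) (hφ : Function.Injective φ) (hX : 2 ≤ LocCoh.idealDepth J X)
    (hG : LocCoh.HasSk 2 O G) : 2 ≤ LocCoh.idealDepth J G := by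
  rw [idealDepth_eq_iInf_depth J]
  rw [idealDepth_eq_iInf_depth J] at hX
  refine le_iInf₂ fun P hP => ?_
  let OP := Localization.AtPrime P.asIdeal
  let GP := LocalizedModule P.asIdeal.primeCompl G
  let XP := LocalizedModule P.asIdeal.primeCompl X
  haveI : Module.Finite OP GP :=
    Module.Finite.of_isLocalizedModule P.asIdeal.primeCompl (LocalizedModule.mkLinearMap _ G)
  haveI : Module.Finite OP XP :=
    Module.Finite.of_isLocalizedModule P.asIdeal.primeCompl (LocalizedModule.mkLinearMap _ X)
  rcases subsingleton_or_nontrivial GP with h | h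
  · show (2 : ℕ∞) ≤ LocCoh.idealDepth (maximalIdeal OP) GP
    rw [idealDepth_eq_top (Subsingleton.elim _ _)]
    exact le_top
  obtain ⟨q, hq⟩ := associatedPrimes.nonempty OP GP
  have h0 := Module.associatedPrimes.comap_mem_associatedPrimes_of_mem_associatedPrimes_of_isLocalizedModule_of_fg
    P.asIdeal.primeCompl (LocalizedModule.mkLinearMap _ G) q hq (IsNoetherian.noetherian _)
  have hqX : q ∈ associatedPrimes OP XP :=
    Module.associatedPrimes.mem_associatedPrimes_of_comap_mem_associatedPrimes_of_isLocalizedModule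
      P.asIdeal.primeCompl (LocalizedModule.mkLinearMap _ X) q (mem_associatedPrimes_target φ hφ h0)
  have h1 : ((2 : ℕ∞) : WithBot ℕ∞) ≤ Module.supportDim OP GP :=
    ((WithBot.coe_le_coe.2 (hX.trans (iInf₂_le P hP))).trans (depth_le_ringKrullDim_quotient hqX)).trans
      (ringKrullDim_quotient_le_supportDim hq)
  have h2 := hG P.asIdeal
  rw [min_eq_left (show ((2 : ℕ) : WithBot ℕ∞) ≤ _ from h1)] at h2
  exact WithBot.coe_le_coe.1 h2

theorem bijective_of_hasSk {G : Type u} [AddCommGroup G] [Module O G] [Module.Finite O G]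
    [Module.Finite O (Q →ₗ[O] X)]
    (φ : G →ₗ[O] (Q →ₗ[O] X)) (hφ : Function.Injective φ) (hX : 2 ≤ LocCoh.idealDepth J X)
    (hG : LocCoh.HasSk 2 O G)
    (hoff : ∀ P : PrimeSpectrum O, ¬ J ≤ P.asIdeal → ∀ g, ∃ t ∉ P.asIdeal, t • g ∈ LinearMap.range φ) :
    Function.Bijective φ := by
  refine ⟨hφ, fun g => ?_⟩
  have h1 : ((1 : ℕ) : ℕ∞) ≤ LocCoh.idealDepth J (Q →ₗ[O] X) := by
    simpa using one_le_hom J (one_le_two.trans hX)
  have hC : 1 ≤ LocCoh.idealDepth J ((Q →ₗ[O] X) ⧸ LinearMap.range φ) := by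
    simpa using le_idealDepth_right (I := J) (n := 1) hφ (Submodule.mkQ_surjective _)
      (LinearMap.exact_map_mkQ_range φ) (by exact_mod_cast two_le_of_injective J φ hφ hX hG) h1
  have hg : Submodule.Quotient.mk (p := LinearMap.range φ) g = 0 := eq_zero_of_off J hC fun P hP => by
    obtain ⟨t, ht, hmem⟩ := hoff P hP g
    exact ⟨t, ht, (Submodule.Quotient.mk_eq_zero _).2 hmem⟩
  exact (Submodule.Quotient.mk_eq_zero _).1 hg

end Groth.L04.ReflLift
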