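import Groth.Agent.L04.ReflLift.Bidual
import Groth.Agent.L02.FibDepth.Semi
import Mathlib.LinearAlgebra.Dual.BaseChange
import Mathlib.RingTheory.Flat.EquationalCriterion
import Mathlib.RingTheory.TensorProduct.Quotient

/-! One Artinian level of the infinitesimal criterion for relative Serre condition two. -/

set_option autoImplicit false
set_option maxSynthPendingDepth 5
set_option linter.style.haveILetI false
set_option backward.isDefEq.respectTransparency false
set_option backward.isDefEq.respectTransparency.types false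

universe u

open scoped TensorProduct
open IsLocalRing Groth.L10.RelCan

noncomputable section

namespace Groth.L04.ReflLift

attribute [local instance] Algebra.TensorProduct.rightAlgebra

variable {R C : Type u} [CommRing R] [CommRing C] [Algebra R C]

theorem exists_dualBasis {F : Type u} [AddCommGroup F] [Module C F] [Module.Finite C F] [IsNoetherianRing C]
    (p : Ideal C) [p.IsPrime]
    [Module.Free (Localization.AtPrime p) (LocalizedModule p.primeCompl F)] :
    ∃ (s : C) (n : ℕ) (x : Fin n → F) (μ : Fin n → Module.Dual C F),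
      s ∉ p ∧ ∀ y, s • y = ∑ i, μ i y • x i := by
  classical
  let S := p.primeCompl
  let Cp := Localization.AtPrime p
  let Fp := LocalizedModule S F
  let mk := LocalizedModule.mkLinearMap S F
  haveI : Module.Finite Cp Fp := Module.Finite.of_isLocalizedModule S mk
  haveI : Module.FinitePresentation C F := Module.finitePresentation_of_finite C F
  let b := Module.finBasis Cp Fp
  let n := Module.finrank Cp Fp
  have hx : ∀ i, ∃ x : F × S, x.2 • b i = mk x.1 := fun i => IsLocalizedModule.surj S mk (b i)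
  choose x hx using hx
  let D := IsLocalizedModule.mapExtendScalars S mk (Algebra.linearMap C Cp) Cp
  have hμ : ∀ i, ∃ μ : Module.Dual C F × S, μ.2 • b.coord i = D μ.1 := fun i => IsLocalizedModule.surj S D (b.coord i)
  choose μ hμ using hμ
  let s : C := (∏ i, ((x i).2 : C)) * ∏ i, ((μ i).2 : C)
  have hs : s ∈ S := mul_mem (prod_mem fun i _ => (x i).2.2) (prod_mem fun i _ => (μ i).2.2)
  have hdvd : ∀ i, ∃ c : C, s = c * ((x i).2 * (μ i).2) := fun i =>
    ⟨(∏ j ∈ Finset.univ.erase i, ((x j).2 : C)) * ∏ j ∈ Finset.univ.erase i, ((μ j).2 : C), by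
      simp only [s]
      rw [← Finset.mul_prod_erase Finset.univ (fun j => ((x j).2 : C)) (Finset.mem_univ i),
        ← Finset.mul_prod_erase Finset.univ (fun j => ((μ j).2 : C)) (Finset.mem_univ i)]
      ring⟩
  choose c hc using hdvd
  let T : F →ₗ[C] F := s • LinearMap.id - ∑ i, (c i • (μ i).1).smulRight (x i).1
  have hT : ∀ y, mk (T y) = 0 := fun y => by
    have hb : mk (s • y) = ∑ i, s • (b.repr (mk y) i • b i) := by
      rw [map_smul, ← Finset.smul_sum, b.sum_repr]
    simp only [T, LinearMap.sub_apply, LinearMap.smul_apply, LinearMap.id_apply, LinearMap.sum_apply,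
      LinearMap.smulRight_apply, smul_eq_mul]
    rw [map_sub, map_sum, hb, sub_eq_zero]
    refine Finset.sum_congr rfl fun i _ => ?_
    have h1 : algebraMap C Cp ((μ i).1 y) = ((μ i).2 : C) • b.repr (mk y) i := by
      have h2 : D (μ i).1 (mk y) = algebraMap C Cp ((μ i).1 y) :=
        IsLocalizedModule.map_apply S mk (Algebra.linearMap C Cp) (μ i).1 y
      rw [← h2, ← hμ i]
      rfl
    rw [map_smul, ← hx i, Submonoid.smul_def, hc i, ← algebraMap_smul Cp (c i * (μ i).1 y), map_mul, h1,
      ← algebraMap_smul Cp (c i * _), ← algebraMap_smul Cp ((x i).2 : C) (b i), Algebra.smul_def ((μ i).2 : C),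
      smul_smul, smul_smul, map_mul, map_mul]
    congr 1
    ring
  obtain ⟨k, v, hv⟩ := Submodule.fg_iff_exists_fin_generating_family.1 (Module.Finite.fg_top (R := C) (M := F))
  choose t ht using fun j => (IsLocalizedModule.eq_zero_iff S mk).1 (hT (v j))
  refine ⟨(∏ j, (t j : C)) * s, n, fun i => (x i).1, fun i => ((∏ j, (t j : C)) * c i) • (μ i).1,
    mul_mem (s := S) (prod_mem fun j _ => (t j).2) hs, fun y => ?_⟩
  have h0 : (∏ j, (t j : C)) • T = 0 := LinearMap.ext_on_range hv fun j => by
    rw [LinearMap.smul_apply, LinearMap.zero_apply,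
      ← Finset.mul_prod_erase Finset.univ (fun l => (t l : C)) (Finset.mem_univ j), mul_comm, mul_smul]
    rw [show (t j : C) • T (v j) = 0 from ht j, smul_zero]
  have h1 := LinearMap.congr_fun h0 y
  simp only [T, LinearMap.sub_apply, LinearMap.smul_apply, LinearMap.id_apply, LinearMap.sum_apply,
    LinearMap.smulRight_apply, LinearMap.zero_apply, smul_sub, sub_eq_zero, Finset.smul_sum, smul_smul,
    smul_eq_mul] at h1 ⊢
  rw [h1]
  exact Finset.sum_congr rfl fun i _ => by rw [mul_assoc]

/-- the socle argument: a module flat over an Artinian quotient -/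
theorem mem_of_socle {L T : Type u} [CommRing L] [Algebra R L] [AddCommGroup T] [Module L T] {I : Ideal R}
    [Module (R ⧸ I) T] [IsLocalRing R] [Module.Flat (R ⧸ I) T] {a : R} (hsoc : ∀ r, r * a ∈ I → r ∈ maximalIdeal R)
    (hcompat : ∀ (r : R) (t : T), algebraMap R L r • t = Ideal.Quotient.mk I r • t) {t : T}
    (h : algebraMap R L a • t = 0) : t ∈ (maximalIdeal R).map (algebraMap R L) • (⊤ : Submodule L T) := by
  rw [hcompat] at h
  obtain ⟨k, c, y, hty, hc⟩ := Module.Flat.isTrivialRelation_of_sum_smul_eq_zero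
    (f := fun _ : Fin 1 => Ideal.Quotient.mk I a) (x := fun _ => t) (by simpa using h)
  rw [show t = ∑ j, c 0 j • y j from hty 0]
  refine Submodule.sum_mem _ fun j _ => ?_
  obtain ⟨r, hr⟩ := Ideal.Quotient.mk_surjective (c 0 j)
  have h4 := hc j
  simp only [Finset.univ_unique, Finset.sum_singleton, Fin.default_eq_zero] at h4
  rw [← hr, ← map_mul, Ideal.Quotient.eq_zero_iff_mem, mul_comm] at h4
  rw [← hr, ← hcompat]
  exact Submodule.smul_mem_smul (Ideal.mem_map_of_mem _ (hsoc r h4)) trivial

/-- an element of an Artinian quotient killed exactly by the maximal ideal -/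
theorem exists_socle [IsNoetherianRing R] [IsLocalRing R] (I : Ideal R) [IsArtinianRing (R ⧸ I)] [IsLocalRing (R ⧸ I)] :
    ∃ a : R, ∀ r, r * a ∈ I ↔ r ∈ maximalIdeal R := by
  obtain ⟨q, hq⟩ := associatedPrimes.nonempty (R ⧸ I) (R ⧸ I)
  obtain ⟨hqp, a', ha'⟩ := isAssociatedPrime_iff.1 hq
  obtain rfl : q = maximalIdeal (R ⧸ I) := IsLocalRing.eq_maximalIdeal inferInstance
  obtain ⟨a, rfl⟩ := Ideal.Quotient.mk_surjective a'
  refine ⟨a, fun r => ?_⟩
  rw [← Ideal.Quotient.eq_zero_iff_mem, map_mul, ← smul_eq_mul, ← colon_singleton_eq, ← ha']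
  haveI : IsLocalHom (Ideal.Quotient.mk I) := .of_surjective _ Ideal.Quotient.mk_surjective
  exact ⟨fun h hu => h (hu.map _), fun h hu => h ((isUnit_map_iff (Ideal.Quotient.mk I) r).1 hu)⟩

/-- maps killed after reduction to the closed fibre are killed by a socle element -/
theorem smul_eq_zero_of_fmap {L Q : Type u} [CommRing L] [Algebra R L] [IsLocalRing R] [AddCommGroup Q] [Module L Q]
    {I : Ideal R} (hIm : I ≤ maximalIdeal R) {a : R} (ha : ∀ r, r ∈ maximalIdeal R → r * a ∈ I)
    (g : Core.Fn R L Q (R ⧸ I)) (hg : Core.fmap L Q (Submodule.factor hIm : (R ⧸ I) →ₗ[R] R ⧸ maximalIdeal R) g = 0) :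
    algebraMap R L a • g = 0 := by
  let π : (R ⧸ I) →ₗ[R] R ⧸ maximalIdeal R := Submodule.factor hIm
  let α : (R ⧸ I) →ₗ[R] R ⧸ I := a • LinearMap.id
  have hα : LinearMap.ker π ≤ LinearMap.ker α := fun z hz => by
    obtain ⟨r, rfl⟩ := Ideal.Quotient.mk_surjective z
    have hr : r ∈ maximalIdeal R := Ideal.Quotient.eq_zero_iff_mem.1 hz
    show a • Ideal.Quotient.mk I r = 0
    rw [Algebra.smul_def, mul_comm, Ideal.Quotient.algebraMap_eq, ← map_mul, Ideal.Quotient.eq_zero_iff_mem]
    exact ha r hr
  let β : (R ⧸ maximalIdeal R) →ₗ[R] R ⧸ I := (LinearMap.ker π).liftQ α hα ∘ₗ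
    (π.quotKerEquivOfSurjective (Submodule.factor_surjective hIm)).symm.toLinearMap
  have hαβ : α = β ∘ₗ π := LinearMap.ext fun z => by
    show α z = (LinearMap.ker π).liftQ α hα ((π.quotKerEquivOfSurjective _).symm (π z))
    rw [show π z = π.quotKerEquivOfSurjective (Submodule.factor_surjective hIm) (Submodule.Quotient.mk z) from rfl,
      LinearEquiv.symm_apply_apply]
    rfl
  refine LinearMap.ext fun q => ?_
  rw [LinearMap.smul_apply, algebraMap_smul, LinearMap.zero_apply]
  have h2 : α.lTensor L (g q) = 0 := by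
    rw [hαβ, LinearMap.lTensor_comp, LinearMap.comp_apply,
      show π.lTensor L (g q) = 0 from LinearMap.congr_fun hg q, map_zero]
  rw [← h2]
  show a • g q = (a • LinearMap.id : (R ⧸ I) →ₗ[R] R ⧸ I).lTensor L (g q)
  rw [LinearMap.lTensor_smul, LinearMap.lTensor_id]
  rfl

variable (F : Type u) [AddCommGroup F] [Module C F] (I : Ideal R) (n : Ideal C) [n.IsPrime]

local notation "C'" => C ⊗[R] (R ⧸ I)
local notation "O" => Localization.AtPrime n
local notation "Q" => Localization.AtPrime n ⊗[C] Module.Dual C F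
local notation "D2" => Module.Dual (C ⊗[R] (R ⧸ I)) (Module.Dual (C ⊗[R] (R ⧸ I)) ((C ⊗[R] (R ⧸ I)) ⊗[C] F))

/-- reduction to the local ring -/
def iota : C' →ₐ[C] O ⊗[R] (R ⧸ I) :=
  Algebra.TensorProduct.map (IsScalarTower.toAlgHom C C O) (AlgHom.id R (R ⧸ I))

theorem iota_eq :
    (iota I n).toLinearMap = TensorProduct.AlgebraTensorModule.rTensor R (R ⧸ I) (Algebra.linearMap C O) :=
  TensorProduct.AlgebraTensorModule.ext fun _ _ => rfl

set_option synthInstance.maxHeartbeats 200000 in
set_option maxHeartbeats 1600000 in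
/-- one level: reduction of maps to the closed fibre is onto and the maps into the fibre satisfy condition two -/
theorem level [IsNoetherianRing R] [IsNoetherianRing C] [IsLocalRing R] [Module.Flat R C]
    [Module.Finite C F] (hn : (maximalIdeal R).map (algebraMap R C) ≤ n) (J : Ideal C)
    (hFU : ∀ q : PrimeSpectrum C, ¬ J ≤ q.asIdeal →
      Module.Free (Localization.AtPrime q.asIdeal) (LocalizedModule q.asIdeal.primeCompl F))
    (hX : 2 ≤ LocCoh.idealDepth (J.map (algebraMap C O)) (O ⊗[R] (R ⧸ maximalIdeal R)))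
    (hIm : I ≤ maximalIdeal R) [IsArtinianRing (R ⧸ I)] [IsLocalRing (R ⧸ I)]
    (hlev : ∀ q' : PrimeSpectrum C', q'.asIdeal.comap (algebraMap C C') = n →
      FlatCA.FlatAt (R ⧸ I) q'.asIdeal D2 ∧
      LocCoh.HasSk 2 (EGA4.FibLocRing (R ⧸ I) C' q'.asIdeal) (EGA4.FibLocMod (R ⧸ I) C' q'.asIdeal D2)) :
    Function.Surjective (Core.fmap O Q (Submodule.factor hIm : (R ⧸ I) →ₗ[R] R ⧸ maximalIdeal R)) ∧
      LocCoh.HasSk 2 O (Core.Fn R O Q (R ⧸ maximalIdeal R)) := by
  classical
  haveI : IsNoetherianRing O := IsLocalization.isNoetherianRing n.primeCompl O inferInstance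
  haveI : Module.Flat R O := Module.Flat.trans R C O
  haveI : IsNoetherianRing (C ⊗[R] (R ⧸ I)) :=
    isNoetherianRing_of_surjective C _ Algebra.TensorProduct.includeLeftRingHom fun z =>
      Core.exists_tmul_one I z
  haveI : Module.Finite C (Module.Dual C F) := inferInstance
  have hsurjC : Function.Surjective (algebraMap C C') := fun z => Core.exists_tmul_one I z
  -- the prime over `n`
  let g₂ : (R ⧸ I) →ₐ[R] C ⧸ n := Ideal.Quotient.liftₐ I (Algebra.ofId R (C ⧸ n)) fun r hr =>
    Ideal.Quotient.eq_zero_iff_mem.2 (hn (Ideal.mem_map_of_mem _ (hIm hr)))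
  let κ : C' →ₐ[R] C ⧸ n := Algebra.TensorProduct.lift (Ideal.Quotient.mkₐ R n) g₂ fun _ _ => Commute.all _ _
  obtain ⟨q', hq'⟩ : ∃ q' : PrimeSpectrum C', q'.asIdeal.comap (algebraMap C C') = n := by
    refine ⟨⟨RingHom.ker κ, RingHom.ker_isPrime κ⟩, ?_⟩
    ext c
    show κ (c ⊗ₜ 1) = 0 ↔ c ∈ n
    simp [κ, Ideal.Quotient.eq_zero_iff_mem]
  obtain ⟨hflat, hsk⟩ := hlev q' hq'
  -- the localised bidual as a module over the local ring
  let C'q := Localization.AtPrime q'.asIdeal
  let σ : O →+* C'q := Localization.localRingHom n q'.asIdeal (algebraMap C C') hq'.symm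
  letI : Algebra O C'q := σ.toAlgebra
  haveI : IsScalarTower C O C'q := IsScalarTower.of_algebraMap_eq fun c => by
    rw [show algebraMap O C'q = σ from rfl, Localization.localRingHom_to_map,
      ← IsScalarTower.algebraMap_apply]
  let T := LocalizedModule q'.asIdeal.primeCompl D2
  letI : Module O T := Module.compHom T σ
  haveI : IsScalarTower O C'q T := ⟨fun o a t => by
    rw [Algebra.smul_def, mul_smul]; rfl⟩
  haveI : IsScalarTower C O T := IsScalarTower.of_algebraMap_smul fun c t => by
    show σ (algebraMap C O c) • t = c • t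
    rw [show σ (algebraMap C O c) = algebraMap C C'q c from (IsScalarTower.algebraMap_apply C O C'q c).symm,
      algebraMap_smul]
  have hσs : Function.Surjective σ := by
    intro a
    obtain ⟨c', u', rfl⟩ := IsLocalization.exists_mk'_eq q'.asIdeal.primeCompl a
    obtain ⟨c, rfl⟩ := hsurjC c'
    obtain ⟨u, hu⟩ := hsurjC u'
    refine ⟨IsLocalization.mk' O c (⟨u, fun h => u'.2 ?_⟩ : n.primeCompl), ?_⟩
    · rw [← hu]
      exact (Ideal.ext_iff.1 hq' u).2 h
    · rw [show σ = Localization.localRingHom n q'.asIdeal (algebraMap C C') hq'.symm from rfl,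
        Localization.localRingHom_mk']
      congr 1
      exact Subtype.ext hu
  let mkT : D2 →ₗ[C] T := (LocalizedModule.mkLinearMap q'.asIdeal.primeCompl D2).restrictScalars C
  haveI : IsLocalizedModule n.primeCompl mkT :=
    { map_units := fun s => by
        rw [show algebraMap C (Module.End C T) (s : C) = Algebra.lsmul C C T (algebraMap C O (s : C)) from
          LinearMap.ext fun t => (algebraMap_smul O (s : C) t).symm]
        exact (IsLocalization.map_units O s).map _
      surj := fun t => by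
        obtain ⟨⟨d, u'⟩, hd⟩ := IsLocalizedModule.surj q'.asIdeal.primeCompl
          (LocalizedModule.mkLinearMap q'.asIdeal.primeCompl D2) t
        obtain ⟨u, hu⟩ := hsurjC u'
        refine ⟨⟨d, ⟨u, fun h => u'.2 (hu ▸ (Ideal.ext_iff.1 hq' u).2 h)⟩⟩, ?_⟩
        show u • t = mkT d
        rw [← algebraMap_smul C' u, hu]
        exact hd
      exists_of_eq := fun {d d'} h => by
        obtain ⟨u', hu'⟩ := IsLocalizedModule.exists_of_eq (S := q'.asIdeal.primeCompl)
          (f := LocalizedModule.mkLinearMap q'.asIdeal.primeCompl D2) h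
        obtain ⟨u, hu⟩ := hsurjC u'
        refine ⟨⟨u, fun h => u'.2 (hu ▸ (Ideal.ext_iff.1 hq' u).2 h)⟩, ?_⟩
        show u • d = u • d'
        rw [← algebraMap_smul C' u d, ← algebraMap_smul C' u d', hu]
        exact hu' }
  haveI : Module.Finite C' (C' ⊗[C] F) := Module.Finite.base_change C C' F
  haveI : Module.Finite C' (Module.Dual C' (C' ⊗[C] F)) := finite_dual (A := C') (M := C' ⊗[C] F)
  haveI : Module.Finite C' D2 := finite_dual (A := C') (M := Module.Dual C' (C' ⊗[C] F))
  haveI : Module.Finite C'q T := Module.Finite.of_isLocalizedModule q'.asIdeal.primeCompl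
    (LocalizedModule.mkLinearMap q'.asIdeal.primeCompl D2)
  haveI : Module.Finite O C'q := Module.Finite.of_surjective (Algebra.linearMap O C'q) hσs
  haveI : Module.Finite O T := Module.Finite.trans C'q T
  have hunits : ∀ (N : Type u) [AddCommGroup N] [Module R N] (s : n.primeCompl),
      IsUnit (algebraMap C (Module.End C (Core.Fn R O Q N)) (s : C)) := fun N _ _ s => by
    rw [show algebraMap C (Module.End C (Core.Fn R O Q N)) (s : C) =
      Algebra.lsmul C C (Core.Fn R O Q N) (algebraMap C O (s : C)) from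
      LinearMap.ext fun t => (algebraMap_smul O (s : C) t).symm]
    exact (IsLocalization.map_units O s).map _
  let ψ : T →ₗ[O] Core.Fn R O Q (R ⧸ I) := LinearMap.extendScalarsOfIsLocalization n.primeCompl O
    (IsLocalizedModule.lift n.primeCompl mkT (psi0 O (iota I n)) (hunits _))
  have hψ : ∀ d, ψ (mkT d) = psi0 O (iota I n) d := fun d => by
    simp [ψ, IsLocalizedModule.lift_apply]
  let JO := J.map (algebraMap C O)
  have hp : ∀ P : PrimeSpectrum O, ¬ JO ≤ P.asIdeal →
      ∃ (s : C) (m : ℕ) (x : Fin m → F) (μ : Fin m → Module.Dual C F),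
        algebraMap C O s ∉ P.asIdeal ∧ ∀ y, s • y = ∑ i, μ i y • x i := fun P hP => by
    let p : PrimeSpectrum C := ⟨P.asIdeal.comap (algebraMap C O), inferInstance⟩
    haveI := hFU p fun h => hP (Ideal.map_le_iff_le_comap.2 h)
    obtain ⟨s, m, x, μ, hs, h⟩ := exists_dualBasis (F := F) p.asIdeal
    exact ⟨s, m, x, μ, hs, h⟩
  -- injectivity
  have hX1 : 1 ≤ LocCoh.idealDepth JO (O ⊗[R] (R ⧸ I)) := by
    have hfl : ∀ q : PrimeSpectrum O, ¬ JO ≤ q.asIdeal → FlatCA.FlatAt R q.asIdeal O := fun q _ =>
      Groth.L20.FibreCrit.flat_localizedModule_of_flat q.asIdeal.primeCompl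
    obtain ⟨e⟩ := FibFlat.nonempty_tensor_quotient_equiv (B := O) O (maximalIdeal R)
    haveI : IsFiniteLength R (R ⧸ I) := by
      exact isFiniteLength_iff_isNoetherian_isArtinian.2
        ⟨inferInstance, isArtinian_of_surjective_algebraMap (R := R ⧸ I) Ideal.Quotient.mk_surjective⟩
    have h2 := FibFlat.le_idealDepth_tensor_finiteLength O JO hfl 1 le_rfl
      (show ((1 : ℕ) : ℕ∞) ≤ LocCoh.idealDepth JO (EGA4.FibMod R O O) by
        rw [Nat.cast_one, show LocCoh.idealDepth JO (EGA4.FibMod R O O) = _ from idealDepth_congr e]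
        exact one_le_two.trans hX) (N := R ⧸ I) ‹_›
    simpa using h2
  haveI := FibFlat.finite_tensor (A := R) (B := O) O (R ⧸ I)
  have hinj : Function.Injective ψ := by
    refine (injective_iff_map_eq_zero ψ).2 ?_
    intro t ht
    obtain ⟨⟨d, u⟩, hd⟩ := IsLocalizedModule.surj n.primeCompl mkT t
    have h0 : psi0 O (iota I n) d = 0 := by
      rw [← hψ, ← hd, Submonoid.smul_def, LinearMap.map_smul_of_tower, ht, smul_zero]
    haveI : IsLocalizedModule n.primeCompl (iota I n).toLinearMap := by
      rw [iota_eq]; infer_instance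
    obtain ⟨w, hw⟩ := exists_kill (iota I n) JO n.primeCompl hX1 hp d h0
    have h3 : mkT d = 0 := (IsLocalizedModule.eq_zero_iff n.primeCompl mkT).2 ⟨w, hw⟩
    rw [h3] at hd
    exact ((Module.End.isUnit_iff _).1 (IsLocalizedModule.map_units mkT u)).1 (hd.trans (map_zero _).symm)
  -- reduction
  let mO := (maximalIdeal R).map (algebraMap R O)
  let π : (R ⧸ I) →ₗ[R] R ⧸ maximalIdeal R := Submodule.factor hIm
  have hker : mO • (⊤ : Submodule O T) ≤ LinearMap.ker (Core.fmap O Q π ∘ₗ ψ) :=
    Submodule.smul_le.2 fun o ho t _ => by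
      rw [LinearMap.mem_ker, map_smul]
      refine LinearMap.ext fun q => ?_
      exact Module.mem_annihilator.1 (Core.map_le_annihilator O ho) _
  let G := T ⧸ (mO • (⊤ : Submodule O T))
  let φ : G →ₗ[O] Core.Fn R O Q (R ⧸ maximalIdeal R) := (mO • (⊤ : Submodule O T)).liftQ _ hker
  have hσR : ∀ r : R, σ (algebraMap R O r) = algebraMap R C'q r := fun r => by
    rw [IsScalarTower.algebraMap_apply R C O, show σ (algebraMap C O (algebraMap R C r)) = _ from
      Localization.localRingHom_to_map n q'.asIdeal _ hq'.symm _, ← IsScalarTower.algebraMap_apply R C C',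
      ← IsScalarTower.algebraMap_apply R C' C'q]
  have hcompat : ∀ (r : R) (t : T), algebraMap R O r • t = Ideal.Quotient.mk I r • t := fun r t => by
    show σ (algebraMap R O r) • t = _
    rw [hσR, IsScalarTower.algebraMap_apply R (R ⧸ I) C'q, algebraMap_smul]
    rfl
  have hφ : Function.Injective φ := by
    rw [← LinearMap.ker_eq_bot]
    refine Submodule.ker_liftQ_eq_bot _ _ _ fun t ht => ?_
    rw [LinearMap.mem_ker, LinearMap.comp_apply] at ht
    haveI : Module.Flat (R ⧸ I) T := hflat
    obtain ⟨a, ha⟩ := exists_socle I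
    refine mem_of_socle (fun r => (ha r).1) hcompat ((injective_iff_map_eq_zero ψ).1 hinj _ ?_)
    rw [map_smul]
    exact smul_eq_zero_of_fmap hIm (fun r => (ha r).2) _ ht
  haveI : Module.Finite O (O ⊗[R] (R ⧸ maximalIdeal R)) := inferInstance
  haveI : Module.Finite O (Core.Fn R O Q (R ⧸ maximalIdeal R)) := Core.finite_maps _
  -- condition two on the reduction
  have hG : LocCoh.HasSk 2 O G := by
    let K := (q'.asIdeal.comap (algebraMap (R ⧸ I) C')).map (algebraMap (R ⧸ I) C'q)
    have hK : mO.map σ = K := by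
      haveI : (q'.asIdeal.comap (algebraMap (R ⧸ I) C')).IsPrime := inferInstance
      haveI : IsLocalHom (Ideal.Quotient.mk I) := .of_surjective _ Ideal.Quotient.mk_surjective
      have e1 : q'.asIdeal.comap (algebraMap (R ⧸ I) C') = (maximalIdeal R).map (Ideal.Quotient.mk I) := by
        rw [IsLocalRing.eq_maximalIdeal (I := q'.asIdeal.comap (algebraMap (R ⧸ I) C')) inferInstance]
        refine le_antisymm (fun z hz => ?_) (Ideal.map_le_iff_le_comap.2 fun r hr => ?_)
        · obtain ⟨r, rfl⟩ := Ideal.Quotient.mk_surjective z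
          exact Ideal.mem_map_of_mem _ fun hu => hz (hu.map _)
        · exact fun hu => hr ((isUnit_map_iff (Ideal.Quotient.mk I) r).1 hu)
      simp only [mO, K, e1, Ideal.map_map]
      congr 1
      exact RingHom.ext fun r => (hσR r).trans (IsScalarTower.algebraMap_apply R (R ⧸ I) C'q r)
    have hres : (mO • (⊤ : Submodule O T)) = (K • (⊤ : Submodule C'q T)).restrictScalars O := by
      rw [← hK, show σ = algebraMap O C'q from rfl, Ideal.smul_restrictScalars, Submodule.restrictScalars_top]
    let E : L02.FibDepth.Semi O G (EGA4.FibLocRing (R ⧸ I) C' q'.asIdeal)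
        (EGA4.FibLocMod (R ⧸ I) C' q'.asIdeal D2) :=
      { φ := (Ideal.Quotient.mk K).comp σ
        surj := Ideal.Quotient.mk_surjective.comp hσs
        e := ((Submodule.quotEquivOfEq _ _ hres).trans
          ((Submodule.Quotient.restrictScalarsEquiv O (K • (⊤ : Submodule C'q T))))).toAddEquiv
        map_smul := fun o g => by
          obtain ⟨t, rfl⟩ := Submodule.Quotient.mk_surjective _ g
          rfl }
    exact (E.hasSk_iff 2).2 hsk
  -- locally onto
  have hoff : ∀ P : PrimeSpectrum O, ¬ JO ≤ P.asIdeal → ∀ g, ∃ t ∉ P.asIdeal, t • g ∈ LinearMap.range φ := by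
    intro P hP g
    obtain ⟨s, m, x, μ, hs, hsx⟩ := hp P hP
    choose o ho using fun i => Core.exists_tmul_one (maximalIdeal R) (g ((1 : O) ⊗ₜ[C] μ i))
    refine ⟨algebraMap C O s, hs, Submodule.Quotient.mk (∑ i, o i • mkT (dx C' (x i))), ?_⟩
    refine TensorProduct.AlgebraTensorModule.ext fun o' ν => ?_
    rw [show o' ⊗ₜ[C] ν = o' • ((1 : O) ⊗ₜ[C] ν) by rw [TensorProduct.smul_tmul', smul_eq_mul, mul_one],
      map_smul, map_smul]
    congr 1
    have hν : s • ν = ∑ i, ν (x i) • μ i := LinearMap.ext fun y => by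
      rw [LinearMap.smul_apply, ← map_smul, hsx, map_sum, LinearMap.sum_apply]
      exact Finset.sum_congr rfl fun i _ => by simp [mul_comm]
    rw [LinearMap.smul_apply, algebraMap_smul, ← LinearMap.map_smul_of_tower, ← TensorProduct.tmul_smul, hν,
      TensorProduct.tmul_sum, map_sum]
    show Core.fmap O Q π (ψ (∑ i, o i • mkT (dx C' (x i)))) _ = _
    rw [map_sum, map_sum, LinearMap.sum_apply]
    refine Finset.sum_congr rfl fun i _ => ?_
    rw [map_smul, map_smul, LinearMap.smul_apply, hψ, Core.fmap_apply, psi0_dx, Algebra.TensorProduct.algebraMap_apply,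
      LinearMap.lTensor_tmul, TensorProduct.tmul_smul, LinearMap.map_smul_of_tower, ← ho, TensorProduct.smul_tmul',
      TensorProduct.smul_tmul', smul_eq_mul, Algebra.smul_def, mul_comm]
    rfl
  have hb := bijective_of_hasSk JO φ hφ hX hG hoff
  refine ⟨fun g => ?_, ?_⟩
  · obtain ⟨z, hz⟩ := hb.2 g
    obtain ⟨t, rfl⟩ := Submodule.Quotient.mk_surjective _ z
    exact ⟨ψ t, hz⟩
  · exact (({ φ := RingHom.id O, surj := Function.surjective_id,
              e := (LinearEquiv.ofBijective φ hb).toAddEquiv,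
              map_smul := fun r z => φ.map_smul r z } :
      L02.FibDepth.Semi O G O (Core.Fn R O Q (R ⧸ maximalIdeal R))).hasSk_iff 2).1 hG

end Groth.L04.ReflLift
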