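import Groth.Agent.L04.ReflLift.Level

/-! The infinitesimal criterion for relative Serre condition two. -/

set_option autoImplicit false
set_option maxSynthPendingDepth 5
set_option linter.style.haveILetI false
set_option backward.isDefEq.respectTransparency false
set_option backward.isDefEq.respectTransparency.types false

universe u

open scoped TensorProduct
open IsLocalRing Groth.L10.RelCan

noncomputable section

namespace Groth.L04.ReflLift

attribute [local instance] Algebra.TensorProduct.rightAlgebra

variable (R C : Type u) [CommRing R] [CommRing C] [IsNoetherianRing R] [IsLocalRing R] [IsNoetherianRing C]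
  [Algebra R C]

/-- the closed fibre of the local ring has depth two along the bad set -/
theorem two_le_depth_fibre (n : Ideal C) [n.IsPrime] (hn : (maximalIdeal R).map (algebraMap R C) ≤ n)
    (hS2 : LocCoh.HasSk 2 (EGA4.FibLocRing R C n) (EGA4.FibLocRing R C n)) (J : Ideal C)
    (hcodim : ∀ q : PrimeSpectrum C, J ≤ q.asIdeal →
      (2 : WithBot ℕ∞) ≤ ringKrullDim (EGA4.FibLocRing R C q.asIdeal)) :
    2 ≤ LocCoh.idealDepth (J.map (algebraMap C (Localization.AtPrime n)))
      (Localization.AtPrime n ⊗[R] (R ⧸ maximalIdeal R)) := by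
  let O := Localization.AtPrime n
  haveI : IsNoetherianRing O := IsLocalization.isNoetherianRing n.primeCompl O inferInstance
  let X := O ⊗[R] (R ⧸ maximalIdeal R)
  let mO := (maximalIdeal R).map (algebraMap R O)
  have hcomap : ∀ (q : Ideal C) [q.IsPrime], (maximalIdeal R).map (algebraMap R C) ≤ q →
      q.comap (algebraMap R C) = maximalIdeal R := fun q _ h =>
    ((maximalIdeal.isMaximal R).eq_of_le (Ideal.IsPrime.ne_top inferInstance) (Ideal.map_le_iff_le_comap.1 h)).symm
  obtain ⟨e⟩ := FibFlat.nonempty_tensor_quotient_equiv (B := O) O (maximalIdeal R)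
  let K := (n.comap (algebraMap R C)).map (algebraMap R O)
  have hK : mO • (⊤ : Submodule O O) = K := by
    simp only [mO, K, hcomap n hn, smul_eq_mul, Ideal.mul_top]
  let E : L02.FibDepth.Semi O X (EGA4.FibLocRing R C n) (EGA4.FibLocRing R C n) :=
    { φ := Ideal.Quotient.mk K
      surj := Ideal.Quotient.mk_surjective
      e := (e.symm.trans (Submodule.quotEquivOfEq _ _ hK)).toAddEquiv
      map_smul := fun o x => (e.symm.trans (Submodule.quotEquivOfEq _ _ hK)).map_smul o x }
  have hX : LocCoh.HasSk 2 O X := (E.hasSk_iff 2).2 hS2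
  rw [idealDepth_eq_iInf_depth]
  refine le_iInf₂ fun P hP => ?_
  by_cases hm : mO ≤ P.asIdeal
  · let p : PrimeSpectrum C := ⟨P.asIdeal.comap (algebraMap C O), inferInstance⟩
    have hJp : J ≤ p.asIdeal := Ideal.map_le_iff_le_comap.1 hP
    have hmp : (maximalIdeal R).map (algebraMap R C) ≤ p.asIdeal := by
      rw [Ideal.map_le_iff_le_comap]
      intro r hr
      show algebraMap C O (algebraMap R C r) ∈ P.asIdeal
      rw [← IsScalarTower.algebraMap_apply]
      exact hm (Ideal.mem_map_of_mem _ hr)
    let ε := IsLocalization.localizationLocalizationAtPrimeIsoLocalization n.primeCompl P.asIdeal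
    have hdim : ((2 : ℕ) : WithBot ℕ∞) ≤
        ringKrullDim (Localization.AtPrime P.asIdeal ⧸ mO.map (algebraMap O (Localization.AtPrime P.asIdeal))) := by
      have e2 : ((p.asIdeal.comap (algebraMap R C)).map (algebraMap R (Localization.AtPrime p.asIdeal))).map
          (ε.toRingEquiv : Localization.AtPrime p.asIdeal →+* Localization.AtPrime P.asIdeal) =
          mO.map (algebraMap O (Localization.AtPrime P.asIdeal)) := by
        rw [hcomap p.asIdeal hmp]
        simp only [mO, Ideal.map_map]
        congr 1
        refine RingHom.ext fun r => ?_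
        show ε (algebraMap R (Localization.AtPrime p.asIdeal) r) = algebraMap O _ (algebraMap R O r)
        rw [IsScalarTower.algebraMap_apply R C (Localization.AtPrime p.asIdeal), AlgEquiv.commutes,
          IsScalarTower.algebraMap_apply R C O, ← IsScalarTower.algebraMap_apply C O (Localization.AtPrime P.asIdeal)]
      exact (hcodim p hJp).trans_eq (ringKrullDim_eq_of_ringEquiv (Ideal.quotientEquiv _ _ ε.toRingEquiv e2.symm))
    exact (Core.le_depth_of_hasSk mO (Core.map_le_annihilator O) hX
      (fun P0 h0 => ⟨1 ⊗ₜ 1, fun t ht => Core.residue_tmul_ne_zero h0.1.2 ht⟩) P.asIdeal hdim).2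
  · obtain ⟨o, ho, hoP⟩ := SetLike.not_le_iff_exists.1 hm
    have : Subsingleton (LocalizedModule P.asIdeal.primeCompl X) := LocalizedModule.subsingleton_iff.2 fun x =>
      ⟨o, hoP, Module.mem_annihilator.1 (Core.map_le_annihilator O ho) x⟩
    show (2 : ℕ∞) ≤ LocCoh.idealDepth (maximalIdeal (Localization.AtPrime P.asIdeal)) _
    rw [idealDepth_eq_top (Subsingleton.elim _ _)]
    exact le_top

set_option maxHeartbeats 1600000 in
theorem main [Module.Flat R C] (n : PrimeSpectrum C) (hn : (maximalIdeal R).map (algebraMap R C) ≤ n.asIdeal)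
    (hS2 : LocCoh.HasSk 2 (EGA4.FibLocRing R C n.asIdeal) (EGA4.FibLocRing R C n.asIdeal))
    (F : Type u) [AddCommGroup F] [Module C F] [Module R F] [IsScalarTower R C F] [Module.Finite C F]
    [Module.IsReflexive C F] (J : Ideal C)
    (hFU : ∀ q : PrimeSpectrum C, ¬ J ≤ q.asIdeal → Module.Free (Localization.AtPrime q.asIdeal) (LocalizedModule q.asIdeal.primeCompl F))
    (hcodim : ∀ q : PrimeSpectrum C, J ≤ q.asIdeal → (2 : WithBot ℕ∞) ≤ ringKrullDim (EGA4.FibLocRing R C q.asIdeal))
    (hI : ∀ (A' : Type u) [CommRing A'] [IsArtinianRing A'] [IsLocalRing A'] [Algebra R A'],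
      Function.Surjective (algebraMap R A') →
      ∀ (C' : Type u) [CommRing C'] [IsNoetherianRing C'] [Algebra C C'] [Algebra A' C'] [Algebra R C']
        [IsScalarTower R C C'] [IsScalarTower R A' C'], Algebra.IsPushout R C A' C' →
        ∀ q' : PrimeSpectrum C', q'.asIdeal.comap (algebraMap C C') = n.asIdeal →
          FlatCA.FlatAt A' q'.asIdeal (Module.Dual C' (Module.Dual C' (C' ⊗[C] F))) ∧
          LocCoh.HasSk 2 (EGA4.FibLocRing A' C' q'.asIdeal)
            (EGA4.FibLocMod A' C' q'.asIdeal (Module.Dual C' (Module.Dual C' (C' ⊗[C] F))))) :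
    FlatCA.FlatAt R n.asIdeal F ∧
      LocCoh.HasSk 2 (EGA4.FibLocRing R C n.asIdeal) (EGA4.FibLocMod R C n.asIdeal F) := by
  let S := n.asIdeal.primeCompl
  let O := Localization.AtPrime n.asIdeal
  let D := Module.Dual C F
  let Q := O ⊗[C] D
  haveI : IsNoetherianRing O := IsLocalization.isNoetherianRing S O inferInstance
  haveI : Module.Flat R O := Module.Flat.trans R C O
  have hcomap : n.asIdeal.comap (algebraMap R C) = maximalIdeal R :=
    ((maximalIdeal.isMaximal R).eq_of_le (Ideal.IsPrime.ne_top inferInstance) (Ideal.map_le_iff_le_comap.1 hn)).symm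
  haveI : IsLocalHom (algebraMap R O) := ⟨fun r hr => by
    by_contra h
    have h1 : algebraMap R C r ∈ n.asIdeal := hn (Ideal.mem_map_of_mem _ h)
    refine (IsLocalization.AtPrime.isUnit_to_map_iff O n.asIdeal (algebraMap R C r)).1 ?_ h1
    rwa [← IsScalarTower.algebraMap_apply]⟩
  haveI : Module.Finite C D := inferInstance
  haveI : Module.Finite O Q := inferInstance
  have hX := two_le_depth_fibre R C n.asIdeal hn hS2 J hcodim
  have hlev : ∀ p : ℕ, Function.Surjective (Core.fmap O Q (Submodule.factor
      (Ideal.pow_le_self p.succ_ne_zero : maximalIdeal R ^ (p + 1) ≤ maximalIdeal R))) ∧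
      LocCoh.HasSk 2 O (Core.Fn R O Q (R ⧸ maximalIdeal R)) := fun p => by
    haveI : Nontrivial (R ⧸ maximalIdeal R ^ (p + 1)) := Ideal.Quotient.nontrivial_iff.2 fun h =>
      (maximalIdeal.isMaximal R).ne_top (top_le_iff.1 (h ▸ Ideal.pow_le_self p.succ_ne_zero))
    haveI : IsLocalRing (R ⧸ maximalIdeal R ^ (p + 1)) :=
      IsLocalRing.of_surjective' _ Ideal.Quotient.mk_surjective
    haveI : IsArtinianRing (R ⧸ maximalIdeal R ^ (p + 1)) := by
      haveI := (isFiniteLength_iff_isNoetherian_isArtinian.1 (Core.isFiniteLength_quotient_pow (A := R) p)).2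
      exact isArtinian_of_tower (R := R) inferInstance
    haveI : IsNoetherianRing (C ⊗[R] (R ⧸ maximalIdeal R ^ (p + 1))) :=
      isNoetherianRing_of_surjective C _ Algebra.TensorProduct.includeLeftRingHom fun z =>
        Core.exists_tmul_one _ z
    exact level F (maximalIdeal R ^ (p + 1)) n.asIdeal hn J hFU hX (Ideal.pow_le_self p.succ_ne_zero)
      fun q' hq' => hI _ Ideal.Quotient.mk_surjective _ inferInstance q' hq'
  have hev := Core.ev_residue_surjective_of_tower fun p => (hlev p).1
  haveI hflat : Module.Flat R (Q →ₗ[O] O) := Core.flat hev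
  -- the localisation of a reflexive module as maps
  haveI : Module.FinitePresentation C D := Module.finitePresentation_of_finite C D
  haveI : IsLocalizedModule S (TensorProduct.mk C O D 1) :=
    (isLocalizedModule_iff_isBaseChange S O _).2 (TensorProduct.isBaseChange C D O)
  let ev0 : F →ₗ[C] (Q →ₗ[O] O) :=
    IsLocalizedModule.mapExtendScalars S (TensorProduct.mk C O D 1) (Algebra.linearMap C O) O ∘ₗ
      (Module.evalEquiv C F).toLinearMap
  haveI : IsLocalizedModule S ev0 := IsLocalizedModule.of_linearEquiv_right S _ _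
  let e : LocalizedModule S F ≃ₗ[O] (Q →ₗ[O] O) :=
    LinearEquiv.extendScalarsOfIsLocalization S O
      (IsLocalizedModule.linearEquiv S (LocalizedModule.mkLinearMap S F) ev0)
  refine ⟨?_, ?_⟩
  · exact Module.Flat.of_linearEquiv (e.restrictScalars R)
  · let M0 := Q →ₗ[O] O
    obtain ⟨e1⟩ := FibFlat.nonempty_tensor_quotient_equiv (A := R) (B := O) M0 (maximalIdeal R)
    let mO := (maximalIdeal R).map (algebraMap R O)
    let K := (n.asIdeal.comap (algebraMap R C)).map (algebraMap R O)
    have hK : mO = K := by simp only [mO, K, hcomap]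
    let e2 : (LocalizedModule S F ⧸ (K • (⊤ : Submodule O (LocalizedModule S F)))) ≃ₗ[O]
        M0 ⧸ (mO • (⊤ : Submodule O M0)) :=
      Submodule.Quotient.equiv _ _ e (by
        rw [Submodule.map_smul'', Submodule.map_top, hK]
        congr 1
        exact LinearMap.range_eq_top.2 e.surjective)
    let e3 : Core.Fn R O Q (R ⧸ maximalIdeal R) ≃ₗ[O]
        LocalizedModule S F ⧸ (K • (⊤ : Submodule O (LocalizedModule S F))) :=
      ((LinearEquiv.ofBijective _ ⟨Core.ev_residue_injective hev, hev⟩).symm.trans e1.symm).trans e2.symm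
    haveI : Module.Finite O (O ⊗[R] (R ⧸ maximalIdeal R)) := inferInstance
    haveI : Module.Finite O (Core.Fn R O Q (R ⧸ maximalIdeal R)) := Core.finite_maps _
    let E : L02.FibDepth.Semi O (Core.Fn R O Q (R ⧸ maximalIdeal R)) (EGA4.FibLocRing R C n.asIdeal)
        (EGA4.FibLocMod R C n.asIdeal F) :=
      { φ := Ideal.Quotient.mk K
        surj := Ideal.Quotient.mk_surjective
        e := e3.toAddEquiv
        map_smul := fun o g => by
          show e3 (o • g) = _
          rw [map_smul]
          obtain ⟨z, hz⟩ := Submodule.Quotient.mk_surjective _ (e3 g)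
          show o • e3 g = Ideal.Quotient.mk K o • e3 g
          rw [← hz]
          rfl }
    exact (E.hasSk_iff 2).1 (hlev 0).2

end Groth.L04.ReflLift
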